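import Cfsg.Agent.H262.Rx.Bridge
import Cfsg.Agent.H815.BR.Row2
import Cfsg.Agent.H883.BR.Fam
import Cfsg.Agent.H886.BR.Dens
import Cfsg.Agent.H811.BR.Typ

/-!
# BR-FIN: `BX IsCl`, `BC IsCl` from the rows (generic part)

* `RowH c` : for every `n` and every large `q` a simple group with the name `c n q` is `G / Z(G)`, `G` quasisimple
  with `Row2 C q G`, and `Spr`;
* `good_of_rowH`, `bx_of_good`, `bc_of_good`.
-/

set_option autoImplicit false

namespace Cfsg.Agent.H94.BR.Fin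

open Cfsg Cfsg.Agent.OrdDiv Cfsg.Agent.H436 Cfsg.Agent.H262.Rx Cfsg.Agent.H883.BR Subgroup

/-- both counts are small -/
def Sm (ε : ℝ) (T : Type) [Group T] : Prop :=
  (∀ x : T, x ≠ 1 → (missX T x : ℝ) ≤ ε * Nat.card T) ∧ (missC T : ℝ) ≤ ε * (Nat.card T : ℝ) ^ 2

/-- the family of names `c` is good in bounded rank -/
def Good (c : ℕ → ℕ → Grp) : Prop := ∀ (n : ℕ) (ε : ℝ), 0 < ε → ∃ Q : ℕ, ∀ q, Q ≤ q → ∀ (T : Type) [Group T]
  [Finite T] [IsSimpleGroup T], IsNamed (c n q) T → Sm ε T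

/-- the rows of the family of names `c` -/
def RowH (c : ℕ → ℕ → Grp) : Prop := ∀ n : ℕ, ∃ C q₀ : ℕ, ∀ q, q₀ ≤ q → ∀ (T : Type) [Group T] [Finite T]
  [IsSimpleGroup T], IsNamed (c n q) T → ∃ (G : Type) (_ : Group G) (_ : Finite G) (f : G →* T),
    Function.Surjective f ∧ f.ker = center G ∧ QS G ∧ Cfsg.Agent.H815.BR.Row2.{0, 0} C q G

/-- `Spr` for all large `q` -/
def SprH (c : ℕ → ℕ → Grp) : Prop := ∀ n : ℕ, ∃ q₀ : ℕ, ∀ q, q₀ ≤ q → ∀ (T : Type) [Group T] [Finite T]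
  [IsSimpleGroup T], IsNamed (c n q) T → Cfsg.Agent.H424.Spr.Spr T

theorem good_of_rowH {c : ℕ → ℕ → Grp} (h : RowH c) (hS : SprH c) : Good c := by
  intro n ε hε
  obtain ⟨C, q₀, h0⟩ := h n
  obtain ⟨q₁, h1⟩ := hS n
  obtain ⟨Q, hQ⟩ := Cfsg.Agent.H815.BR.miss_of_row2
    (fun m e => Cfsg.Agent.H886.BR.dens_conj m e) (fun m e => Cfsg.Agent.H886.BR.dens_fix m e)
    (fun m e k => Cfsg.Agent.H811.BR.typ_pow m e k) (fun m e => Cfsg.Agent.H811.BR.typ_tr m e) C ε hε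
  refine ⟨max (max q₀ q₁) Q, fun q hq T _ _ _ hT => ?_⟩
  obtain ⟨G, _, _, f, hf, hk, hG, hR⟩ := h0 q (((le_max_left _ _).trans (le_max_left _ _)).trans hq) T hT
  exact hQ q ((le_max_right _ _).trans hq) G T f hf hk hG hR
    (h1 q (((le_max_right _ _).trans (le_max_left _ _)).trans hq) T hT)

/-- bounded rank from good families; `rk (c n q) = n`, `fld (c n q) = q` -/
theorem bx_of_good {c : ℕ → ℕ → Grp} (hrk : ∀ n q, rk (c n q) = n) (hfld : ∀ n q, fld (c n q) = q) (h : Good c) :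
    BX fun g => ∃ n q, g = c n q := by
  intro N ε hε
  choose Q hQ using fun n => h n ε hε
  refine ⟨(Finset.range (N + 1)).sup Q, ?_⟩
  rintro g T _ _ _ hT ⟨n, q, rfl⟩ hk hq x hx
  rw [hrk] at hk
  rw [hfld] at hq
  have h1 : Q n ≤ q := (Finset.le_sup (f := Q) (Finset.mem_range.2 (by omega))).trans hq
  exact (hQ n q h1 T hT).1 x hx

theorem bc_of_good {c : ℕ → ℕ → Grp} (hrk : ∀ n q, rk (c n q) = n) (hfld : ∀ n q, fld (c n q) = q) (h : Good c) :
    BC fun g => ∃ n q, g = c n q := by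
  intro N ε hε
  choose Q hQ using fun n => h n ε hε
  refine ⟨(Finset.range (N + 1)).sup Q, ?_⟩
  rintro g T _ _ _ hT ⟨n, q, rfl⟩ hk hq
  rw [hrk] at hk
  rw [hfld] at hq
  have h1 : Q n ≤ q := (Finset.le_sup (f := Q) (Finset.mem_range.2 (by omega))).trans hq
  exact (hQ n q h1 T hT).2

/-- `BX IsCl` -/
theorem bx_isCl (h1 : Good .psl) (h2 : Good .psp) (h3 : Good .psu) (h4 : Good .oodd) (h5 : Good .oplus)
    (h6 : Good .ominus) : BX IsCl :=
  (bx_of_good (fun _ _ => rfl) (fun _ _ => rfl) h1).or ((bx_of_good (fun _ _ => rfl) (fun _ _ => rfl) h2).or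
    ((bx_of_good (fun _ _ => rfl) (fun _ _ => rfl) h3).or ((bx_of_good (fun _ _ => rfl) (fun _ _ => rfl) h4).or
      ((bx_of_good (fun _ _ => rfl) (fun _ _ => rfl) h5).or (bx_of_good (fun _ _ => rfl) (fun _ _ => rfl) h6)))))

/-- `BC IsCl` -/
theorem bc_isCl (h1 : Good .psl) (h2 : Good .psp) (h3 : Good .psu) (h4 : Good .oodd) (h5 : Good .oplus)
    (h6 : Good .ominus) : BC IsCl :=
  (bc_of_good (fun _ _ => rfl) (fun _ _ => rfl) h1).or ((bc_of_good (fun _ _ => rfl) (fun _ _ => rfl) h2).or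
    ((bc_of_good (fun _ _ => rfl) (fun _ _ => rfl) h3).or ((bc_of_good (fun _ _ => rfl) (fun _ _ => rfl) h4).or
      ((bc_of_good (fun _ _ => rfl) (fun _ _ => rfl) h5).or (bc_of_good (fun _ _ => rfl) (fun _ _ => rfl) h6)))))

/-- the canonical map -/
theorem exists_map {T G : Type} [Group T] [Group G] (e : T ≃* G ⧸ center G) :
    ∃ f : G →* T, Function.Surjective f ∧ f.ker = center G := by
  refine ⟨e.symm.toMonoidHom.comp (QuotientGroup.mk' (center G)),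
    e.symm.surjective.comp (QuotientGroup.mk'_surjective _), ?_⟩
  ext g
  rw [MonoidHom.mem_ker]
  change e.symm (QuotientGroup.mk' (center G) g) = 1 ↔ _
  rw [map_eq_one_iff _ e.symm.injective, QuotientGroup.mk'_apply, QuotientGroup.eq_one_iff]

end Cfsg.Agent.H94.BR.Fin
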