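import Cfsg.Agent.H94.BR.FinA
import Cfsg.Agent.H16.BR.Idx
import Cfsg.Agent.LieClassical.OrthForms

/-!
# BR-FIN: the rows of the six families of names
-/

set_option autoImplicit false

namespace Cfsg.Agent.H94.BR.Fin

open Cfsg Cfsg.Agent.OrdDiv Cfsg.Agent.H436 Cfsg.Agent.H262.Rx Cfsg.Agent.H883.BR Subgroup
open Cfsg.Agent.LieClassical.OrthForms

/-- D5 -/
def RoF : Prop := ∀ n : ℕ, ∃ C q₀ : ℕ, ∀ (q : ℕ) (G : Type) [Group G], q₀ ≤ q → HasFam.{0, 0} n q G → Row.{0, 0} C q G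

/-- the stub `fam_sl` -/
def FSl : Prop := ∀ (n : ℕ), 2 ≤ n → ∃ q₀ : ℕ, ∀ (F : Type) [Field F] [Fintype F], q₀ ≤ Fintype.card F →
    HasFam.{0, 0} n (Fintype.card F) (Matrix.SpecialLinearGroup (Fin n) F)

/-- the stub `fam_su` -/
def FSu : Prop := ∀ (n : ℕ), 3 ≤ n → ∃ q₀ : ℕ, ∀ (F : Type) [Field F] [Fintype F] (q : ℕ),
    Fintype.card F = q ^ 2 → q₀ ≤ q → HasFam.{0, 0} n q (SU n F q)

/-- the stub `fam_sp_odd` -/
def FSpO : Prop := ∀ (m : ℕ), 2 ≤ m → ∃ q₀ : ℕ, ∀ (F : Type) [Field F] [Fintype F], q₀ ≤ Fintype.card F →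
    Odd (Fintype.card F) → HasFam.{0, 0} (2 * m) (Fintype.card F) (Matrix.symplecticGroup (Fin m) F)

/-- `row_sp_even` and `row2_sp4` -/
def RSpE : Prop := ∀ (m : ℕ), 2 ≤ m → ∃ C q₀ : ℕ, ∀ (F : Type) [Field F] [Fintype F], q₀ ≤ Fintype.card F →
    Even (Fintype.card F) → Cfsg.Agent.H815.BR.Row2.{0, 0} C (Fintype.card F) (Matrix.symplecticGroup (Fin m) F)

/-- the stub `fam_omega_odd` -/
def FOmO : Prop := ∀ (n : ℕ), 7 ≤ n → ∃ q₀ : ℕ, ∀ (F : Type) [Field F] [Fintype F], q₀ ≤ Fintype.card F →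
    Odd (Fintype.card F) → ∀ (ι : Type) [Fintype ι] [DecidableEq ι] (Q : QuadraticForm F (ι → F)),
    Fintype.card ι = n → (∀ v, (∀ w, QuadraticMap.polar Q v w = 0) → v = 0) →
    HasFam.{0, 0} n (Fintype.card F) (Omega F (fun v : ι → F => Q v))

/-- the stub `fam_omega_even` -/
def FOmE : Prop := ∀ (n : ℕ), 8 ≤ n → ∃ q₀ : ℕ, ∀ (F : Type) [Field F] [Fintype F], q₀ ≤ Fintype.card F →
    Even (Fintype.card F) → ∀ (ι : Type) [Fintype ι] [DecidableEq ι] (Q : QuadraticForm F (ι → F)),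
    Fintype.card ι = n → (∀ v, (∀ w, QuadraticMap.polar Q v w = 0) → v = 0) →
    HasFam.{0, 0} n (Fintype.card F) (Omega F (fun v : ι → F => Q v))

/-- one group is enough -/
theorem mk_row {C q : ℕ} {T G : Type} [Group T] [Group G] [Finite G] (e : T ≃* G ⧸ center G)
    (hG : QS G) (hR : Cfsg.Agent.H815.BR.Row2.{0, 0} C q G) :
    ∃ (G : Type) (_ : Group G) (_ : Finite G) (f : G →* T),
      Function.Surjective f ∧ f.ker = center G ∧ QS G ∧ Cfsg.Agent.H815.BR.Row2.{0, 0} C q G := by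
  obtain ⟨f, hf, hk⟩ := exists_map e
  exact ⟨G, inferInstance, inferInstance, f, hf, hk, hG, hR⟩

theorem rowH_psl (hR : RoF) (hF : FSl) : RowH .psl := by
  intro n
  by_cases hn : 2 ≤ n
  · obtain ⟨C, q₀, h⟩ := hR n
    obtain ⟨q₁, h1⟩ := hF n hn
    refine ⟨C, max (max q₀ q₁) 4, fun q hq T _ _ _ hT => ?_⟩
    obtain ⟨F, _, _, hFq, ⟨e⟩⟩ := hT.real
    have hq0 : q₀ ≤ q := ((le_max_left _ _).trans (le_max_left _ _)).trans hq
    have hq1 : q₁ ≤ q := ((le_max_right _ _).trans (le_max_left _ _)).trans hq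
    have hq4 : 4 ≤ q := (le_max_right _ _).trans hq
    have h2 := h1 F (by rw [hFq]; exact hq1)
    rw [hFq] at h2
    refine mk_row (G := Matrix.SpecialLinearGroup (Fin n) F) e ?_ (Cfsg.Agent.H815.BR.Row2.of_row (h q _ hq0 h2))
    refine Cfsg.Agent.H16.BR.qs_of ?_
    rcases Nat.lt_or_ge 2 n with h3 | h3
    · exact Cfsg.Agent.H16.BR.quasi_sl h3
    · have h4 : n = 2 := by omega
      subst h4
      exact Cfsg.Agent.H16.BR.quasi_sl_two (by rw [hFq]; exact hq4)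
  · exact ⟨0, 0, fun q _ T _ _ _ hT => absurd hT.cond.1 hn⟩

theorem rowH_psu (hR : RoF) (hF : FSu) : RowH .psu := by
  intro n
  by_cases hn : 3 ≤ n
  · obtain ⟨C, q₀, h⟩ := hR n
    obtain ⟨q₁, h1⟩ := hF n hn
    refine ⟨C, max (max q₀ q₁) 4, fun q hq T _ _ _ hT => ?_⟩
    obtain ⟨F, _, _, hFq, ⟨e⟩⟩ := hT.real
    have hq0 : q₀ ≤ q := ((le_max_left _ _).trans (le_max_left _ _)).trans hq
    have hq1 : q₁ ≤ q := ((le_max_right _ _).trans (le_max_left _ _)).trans hq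
    have hq4 : 4 ≤ q := (le_max_right _ _).trans hq
    exact mk_row (G := SU n F q) e (Cfsg.Agent.H16.BR.qs_of (Cfsg.Agent.H16.BR.quasi_su hFq hn (by omega)))
      (Cfsg.Agent.H815.BR.Row2.of_row (h q _ hq0 (h1 F q hFq hq1)))
  · exact ⟨0, 0, fun q _ T _ _ _ hT => absurd hT.cond.1 hn⟩

/-! ### splitting by parity -/

/-- `Good` for the `q` with `P q` -/
def GoodP (P : ℕ → Prop) (c : ℕ → ℕ → Grp) : Prop := ∀ (n : ℕ) (ε : ℝ), 0 < ε → ∃ Q : ℕ, ∀ q, Q ≤ q → P q →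
  ∀ (T : Type) [Group T] [Finite T] [IsSimpleGroup T], IsNamed (c n q) T → Sm ε T

/-- `RowH` for the `q` with `P q` -/
def RowP (P : ℕ → Prop) (c : ℕ → ℕ → Grp) : Prop := ∀ n : ℕ, ∃ C q₀ : ℕ, ∀ q, q₀ ≤ q → P q → ∀ (T : Type) [Group T]
  [Finite T] [IsSimpleGroup T], IsNamed (c n q) T → ∃ (G : Type) (_ : Group G) (_ : Finite G) (f : G →* T),
    Function.Surjective f ∧ f.ker = center G ∧ QS G ∧ Cfsg.Agent.H815.BR.Row2.{0, 0} C q G

theorem goodP_of_rowP {P : ℕ → Prop} {c : ℕ → ℕ → Grp} (h : RowP P c) (hS : SprH c) : GoodP P c := by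
  intro n ε hε
  obtain ⟨C, q₀, h0⟩ := h n
  obtain ⟨q₁, h1⟩ := hS n
  obtain ⟨Q, hQ⟩ := Cfsg.Agent.H815.BR.miss_of_row2
    (fun m e => Cfsg.Agent.H886.BR.dens_conj m e) (fun m e => Cfsg.Agent.H886.BR.dens_fix m e)
    (fun m e k => Cfsg.Agent.H811.BR.typ_pow m e k) (fun m e => Cfsg.Agent.H811.BR.typ_tr m e) C ε hε
  refine ⟨max (max q₀ q₁) Q, fun q hq hP T _ _ _ hT => ?_⟩
  obtain ⟨G, _, _, f, hf, hk, hG, hR⟩ := h0 q (((le_max_left _ _).trans (le_max_left _ _)).trans hq) hP T hT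
  exact hQ q ((le_max_right _ _).trans hq) G T f hf hk hG hR
    (h1 q (((le_max_right _ _).trans (le_max_left _ _)).trans hq) T hT)

theorem good_of_parity {c : ℕ → ℕ → Grp} (h : GoodP Odd c) (h' : GoodP Even c) : Good c := by
  intro n ε hε
  obtain ⟨Q, hQ⟩ := h n ε hε
  obtain ⟨Q', hQ'⟩ := h' n ε hε
  refine ⟨max Q Q', fun q hq T _ _ _ hT => ?_⟩
  rcases Nat.even_or_odd q with hP | hP
  · exact hQ' q ((le_max_right _ _).trans hq) hP T hT
  · exact hQ q ((le_max_left _ _).trans hq) hP T hT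

theorem rowP_psp_odd (hR : RoF) (hF : FSpO) : RowP Odd .psp := by
  intro m
  by_cases hm : 2 ≤ m
  · obtain ⟨C, q₀, h⟩ := hR (2 * m)
    obtain ⟨q₁, h1⟩ := hF m hm
    refine ⟨C, max (max q₀ q₁) 4, fun q hq hP T _ _ _ hT => ?_⟩
    obtain ⟨F, _, _, hFq, ⟨e⟩⟩ := hT.real
    have hq0 : q₀ ≤ q := ((le_max_left _ _).trans (le_max_left _ _)).trans hq
    have hq1 : q₁ ≤ q := ((le_max_right _ _).trans (le_max_left _ _)).trans hq
    have hq4 : 4 ≤ q := (le_max_right _ _).trans hq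
    have h2 := h1 F (by rw [hFq]; exact hq1) (by rw [hFq]; exact hP)
    rw [hFq] at h2
    exact mk_row (G := Matrix.symplecticGroup (Fin m) F) e
      (Cfsg.Agent.H16.BR.qs_of (Cfsg.Agent.H16.BR.quasi_sp hm (by rw [hFq]; omega)))
      (Cfsg.Agent.H815.BR.Row2.of_row (h q _ hq0 h2))
  · exact ⟨0, 0, fun q _ _ T _ _ _ hT => absurd hT.cond.1 hm⟩

theorem rowP_psp_even (hE : RSpE) : RowP Even .psp := by
  intro m
  by_cases hm : 2 ≤ m
  · obtain ⟨C, q₁, h1⟩ := hE m hm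
    refine ⟨C, max q₁ 4, fun q hq hP T _ _ _ hT => ?_⟩
    obtain ⟨F, _, _, hFq, ⟨e⟩⟩ := hT.real
    have hq1 : q₁ ≤ q := (le_max_left _ _).trans hq
    have hq4 : 4 ≤ q := (le_max_right _ _).trans hq
    have h2 := h1 F (by rw [hFq]; exact hq1) (by rw [hFq]; exact hP)
    rw [hFq] at h2
    exact mk_row (G := Matrix.symplecticGroup (Fin m) F) e
      (Cfsg.Agent.H16.BR.qs_of (Cfsg.Agent.H16.BR.quasi_sp hm (by rw [hFq]; omega))) h2
  · exact ⟨0, 0, fun q _ _ T _ _ _ hT => absurd hT.cond.1 hm⟩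

/-- `2 ≠ 0` in odd characteristic -/
theorem two_ne {F : Type} [Field F] [Fintype F] (h : Odd (Fintype.card F)) : (2 : F) ≠ 0 := by
  intro h2
  have h3 : CharP F 2 := CharTwo.of_one_ne_zero_of_two_eq_zero one_ne_zero h2
  have h4 := FiniteField.even_card_iff_char_two.1 (ringChar.eq F 2 ▸ rfl : ringChar F = 2)
  rw [Nat.odd_iff] at h
  omega

/-- one orthogonal group -/
theorem omega_row {C q₀ q : ℕ} {n : ℕ} (hn : 5 ≤ n)
    (h : ∀ (q : ℕ) (G : Type) [Group G], q₀ ≤ q → HasFam.{0, 0} n q G → Row.{0, 0} C q G) {F : Type} [Field F]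
    [Fintype F] (hFq : Fintype.card F = q) (hq : q₀ ≤ q) {ι : Type} [Fintype ι] [DecidableEq ι]
    (Q : QuadraticForm F (ι → F)) (hι : Fintype.card ι = n) (hQ : ∀ v, (∀ w, QuadraticMap.polar Q v w = 0) → v = 0)
    {Q' : (ι → F) → F} (hQ' : ⇑Q = Q')
    (h2 : HasFam.{0, 0} n (Fintype.card F) (Omega F (fun v : ι → F => Q v))) {T : Type} [Group T]
    (e : T ≃* POmega F Q') :
    ∃ (G : Type) (_ : Group G) (_ : Finite G) (f : G →* T),
      Function.Surjective f ∧ f.ker = center G ∧ QS G ∧ Cfsg.Agent.H815.BR.Row2.{0, 0} C q G := by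
  subst hQ'
  subst hFq
  exact mk_row (G := Omega F ⇑Q) e
    (Cfsg.Agent.H16.BR.qs_of (Cfsg.Agent.H16.BR.quasi_omega hQ (by omega)))
      (Cfsg.Agent.H815.BR.Row2.of_row (h _ _ hq h2))

theorem rowH_oodd (hR : RoF) (hF : FOmO) : RowH .oodd := by
  intro m
  by_cases hm : 3 ≤ m
  · obtain ⟨C, q₀, h⟩ := hR (2 * m + 1)
    obtain ⟨q₁, h1⟩ := hF (2 * m + 1) (by omega)
    refine ⟨C, max q₀ q₁, fun q hq T _ _ _ hT => ?_⟩
    obtain ⟨F, _, _, hFq, ⟨e⟩⟩ := hT.real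
    have hP : Odd q := hT.cond.2.1
    have hq0 : q₀ ≤ q := (le_max_left _ _).trans hq
    have hq1 : q₁ ≤ q := (le_max_right _ _).trans hq
    have hι : Fintype.card (Unit ⊕ (Fin m ⊕ Fin m)) = 2 * m + 1 := by
      rw [Fintype.card_sum, Fintype.card_sum, Fintype.card_fin, Fintype.card_unit]; ring
    have hnd := nondeg_oddForm m F (two_ne (F := F) (by rw [hFq]; exact hP))
    exact omega_row (by omega) h hFq hq0 (oddForm m F) hι hnd (coe_oddForm ..)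
      (h1 F (by rw [hFq]; exact hq1) (by rw [hFq]; exact hP) _ _ hι hnd) e
  · exact ⟨0, 0, fun q _ T _ _ _ hT => absurd hT.cond.1 hm⟩

theorem rowP_oplus_odd (hR : RoF) (hF : FOmO) : RowP Odd .oplus := by
  intro m
  by_cases hm : 4 ≤ m
  · obtain ⟨C, q₀, h⟩ := hR (2 * m)
    obtain ⟨q₁, h1⟩ := hF (2 * m) (by omega)
    refine ⟨C, max q₀ q₁, fun q hq hP T _ _ _ hT => ?_⟩
    obtain ⟨F, _, _, hFq, ⟨e⟩⟩ := hT.real
    have hq0 : q₀ ≤ q := (le_max_left _ _).trans hq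
    have hq1 : q₁ ≤ q := (le_max_right _ _).trans hq
    have hι : Fintype.card (Fin m ⊕ Fin m) = 2 * m := by
      rw [Fintype.card_sum, Fintype.card_fin]; ring
    have hnd := nondeg_plusForm m F
    exact omega_row (by omega) h hFq hq0 (plusForm m F) hι hnd (coe_plusForm ..)
      (h1 F (by rw [hFq]; exact hq1) (by rw [hFq]; exact hP) _ _ hι hnd) e
  · exact ⟨0, 0, fun q _ _ T _ _ _ hT => absurd hT.cond.1 hm⟩

theorem rowP_oplus_even (hR : RoF) (hF : FOmE) : RowP Even .oplus := by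
  intro m
  by_cases hm : 4 ≤ m
  · obtain ⟨C, q₀, h⟩ := hR (2 * m)
    obtain ⟨q₁, h1⟩ := hF (2 * m) (by omega)
    refine ⟨C, max q₀ q₁, fun q hq hP T _ _ _ hT => ?_⟩
    obtain ⟨F, _, _, hFq, ⟨e⟩⟩ := hT.real
    have hq0 : q₀ ≤ q := (le_max_left _ _).trans hq
    have hq1 : q₁ ≤ q := (le_max_right _ _).trans hq
    have hι : Fintype.card (Fin m ⊕ Fin m) = 2 * m := by
      rw [Fintype.card_sum, Fintype.card_fin]; ring
    have hnd := nondeg_plusForm m F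
    exact omega_row (by omega) h hFq hq0 (plusForm m F) hι hnd (coe_plusForm ..)
      (h1 F (by rw [hFq]; exact hq1) (by rw [hFq]; exact hP) _ _ hι hnd) e
  · exact ⟨0, 0, fun q _ _ T _ _ _ hT => absurd hT.cond.1 hm⟩

theorem rowP_ominus_odd (hR : RoF) (hF : FOmO) : RowP Odd .ominus := by
  intro m
  by_cases hm : 4 ≤ m
  · obtain ⟨C, q₀, h⟩ := hR (2 * m)
    obtain ⟨q₁, h1⟩ := hF (2 * m) (by omega)
    refine ⟨C, max q₀ q₁, fun q hq hP T _ _ _ hT => ?_⟩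
    obtain ⟨F, _, _, a, b, hFq, hab, ⟨e⟩⟩ := hT.real
    have hq0 : q₀ ≤ q := (le_max_left _ _).trans hq
    have hq1 : q₁ ≤ q := (le_max_right _ _).trans hq
    have hι : Fintype.card ((Fin (m - 1) ⊕ Fin (m - 1)) ⊕ Fin 2) = 2 * m := by
      rw [Fintype.card_sum, Fintype.card_sum, Fintype.card_fin, Fintype.card_fin]; omega
    have hnd := nondeg_minusForm (m - 1) F a b hab
    exact omega_row (by omega) h hFq hq0 (minusForm (m - 1) F a b) hι hnd (coe_minusForm ..)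
      (h1 F (by rw [hFq]; exact hq1) (by rw [hFq]; exact hP) _ _ hι hnd) e
  · exact ⟨0, 0, fun q _ _ T _ _ _ hT => absurd hT.cond.1 hm⟩

theorem rowP_ominus_even (hR : RoF) (hF : FOmE) : RowP Even .ominus := by
  intro m
  by_cases hm : 4 ≤ m
  · obtain ⟨C, q₀, h⟩ := hR (2 * m)
    obtain ⟨q₁, h1⟩ := hF (2 * m) (by omega)
    refine ⟨C, max q₀ q₁, fun q hq hP T _ _ _ hT => ?_⟩
    obtain ⟨F, _, _, a, b, hFq, hab, ⟨e⟩⟩ := hT.real
    have hq0 : q₀ ≤ q := (le_max_left _ _).trans hq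
    have hq1 : q₁ ≤ q := (le_max_right _ _).trans hq
    have hι : Fintype.card ((Fin (m - 1) ⊕ Fin (m - 1)) ⊕ Fin 2) = 2 * m := by
      rw [Fintype.card_sum, Fintype.card_sum, Fintype.card_fin, Fintype.card_fin]; omega
    have hnd := nondeg_minusForm (m - 1) F a b hab
    exact omega_row (by omega) h hFq hq0 (minusForm (m - 1) F a b) hι hnd (coe_minusForm ..)
      (h1 F (by rw [hFq]; exact hq1) (by rw [hFq]; exact hP) _ _ hι hnd) e
  · exact ⟨0, 0, fun q _ _ T _ _ _ hT => absurd hT.cond.1 hm⟩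

/-- `Spr` for all classical names of large `q` -/
structure SprA : Prop where
  psl : SprH .psl
  psp : SprH .psp
  psu : SprH .psu
  oodd : SprH .oodd
  oplus : SprH .oplus
  ominus : SprH .ominus

/-- **bounded rank** -/
theorem bx_bc (hR : RoF) (h1 : FSl) (h2 : FSu) (h3 : FSpO) (h4 : RSpE) (h5 : FOmO) (h6 : FOmE) (hS : SprA) :
    BX IsCl ∧ BC IsCl := by
  have g1 : Good .psl := good_of_rowH (rowH_psl hR h1) hS.psl
  have g2 : Good .psp := good_of_parity (goodP_of_rowP (rowP_psp_odd hR h3) hS.psp)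
    (goodP_of_rowP (rowP_psp_even h4) hS.psp)
  have g3 : Good .psu := good_of_rowH (rowH_psu hR h2) hS.psu
  have g4 : Good .oodd := good_of_rowH (rowH_oodd hR h5) hS.oodd
  have g5 : Good .oplus := good_of_parity (goodP_of_rowP (rowP_oplus_odd hR h5) hS.oplus)
    (goodP_of_rowP (rowP_oplus_even hR h6) hS.oplus)
  have g6 : Good .ominus := good_of_parity (goodP_of_rowP (rowP_ominus_odd hR h5) hS.ominus)
    (goodP_of_rowP (rowP_ominus_even hR h6) hS.ominus)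
  exact ⟨bx_isCl g1 g2 g3 g4 g5 g6, bc_isCl g1 g2 g3 g4 g5 g6⟩

end Cfsg.Agent.H94.BR.Fin
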