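import Cfsg.Agent.H94.BR.SpFinA
import Cfsg.Agent.H883.BR.Row

/-!
# HUB BR, `Sp_{2m}(2^f)`: final form
-/

set_option autoImplicit false

namespace Cfsg.Agent.H94.BR

open Cfsg.Agent.H883.BR

/-- **`Sp_{2m}(2^f)`, `m ≥ 3`** -/
theorem row_sp_even (m : ℕ) (hm : 3 ≤ m) : ∃ C q₀ : ℕ, ∀ (F : Type) [Field F] [Fintype F], q₀ ≤ Fintype.card F →
    Even (Fintype.card F) → Row.{0, 0} C (Fintype.card F) (Matrix.symplecticGroup (Fin m) F) :=
  row_sp_even' stStr stCRG m hm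

/-- **`Sp_4(2^f)`** -/
theorem row2_sp4 : ∃ C q₀ : ℕ, ∀ (F : Type) [Field F] [Fintype F], q₀ ≤ Fintype.card F →
    Even (Fintype.card F) → Cfsg.Agent.H815.BR.Row2.{0, 0} C (Fintype.card F) (Matrix.symplecticGroup (Fin 2) F) :=
  row2_sp4' stStr stCRG

/-- all `m ≥ 2` -/
theorem rspE' : Fin.RSpE := rspE stStr stCRG

/-- D5 -/
theorem roF : Fin.RoF := fun n => row_of_hasFam n

end Cfsg.Agent.H94.BR
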