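import Cfsg.Agent.H94.BR.FinC
import Cfsg.Agent.H94.BR.SpFinal
import Cfsg.Agent.H744.BR.Sl
import Cfsg.Agent.H379.BR.SuFam
import Cfsg.Agent.H858.BR.SpFam
import Cfsg.Agent.H872.BR.FamOmE
import Cfsg.Agent.H883.BR.FamOmO

/-!
# BR-FIN: bounded rank, all families
-/

set_option autoImplicit false

namespace Cfsg.Agent.H94.BR.Fin

open Cfsg.Agent.H262.Rx

/-- **bounded rank, modulo `Spr`** -/
theorem bx_bc_of (hS : SprA) : BX IsCl ∧ BC IsCl :=
  bx_bc roF (fun n hn => Cfsg.Agent.H744.BR.fam_sl n hn) (fun n hn => Cfsg.Agent.H379.BR.fam_su n hn)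
    (fun m hm => Cfsg.Agent.H858.BR.fam_sp_odd m hm) rspE'
    (fun n hn => Cfsg.Agent.H883.BR.fam_omega_odd n hn)
    (fun n hn => Cfsg.Agent.H872.BR.fam_omega_even n hn) hS

end Cfsg.Agent.H94.BR.Fin
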