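import Cfsg.Agent.H94.BR.SpCases
import Cfsg.Agent.H601.BR.SpW
import Cfsg.Agent.H545.BR.Str

/-!
# HUB BR, `Sp_{2m}(2^f)`: from `H` to the three cases
-/

set_option autoImplicit false

namespace Cfsg.Agent.H94.BR

open Cfsg.Agent.H883.BR

universe u v w

/-- `F` lies in the field generated by the eigenvalues of `N(U)` -/
theorem le_closure {p : ℕ} [Fact p.Prime] {K : Type u} [Field K] [CharP K p] [IsAlgClosed K]
    (lf : ∀ S : Set K, S.Finite → ∃ E : Subfield K, Finite E ∧ S ⊆ E) {F : Subfield K} {G : Type w}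
    [Group G] [Finite G]
    {W : Type v} [AddCommGroup W] [Module K W] [FiniteDimensional K W] (σ : G →* Module.End K W)
    {H M : Subgroup G} (hMH : M ≤ H) (hn : ∀ h ∈ H, ∀ m ∈ M, h * m * h⁻¹ ∈ M) {U : Subgroup M}
    (hc : CRG.{u, v, w} p U) (hirr : Irr σ M) (hz : ∀ z : M, z ∈ Subgroup.center M → σ z = 1) {w : W} (hw : w ≠ 0)
    (hu : ∀ u ∈ U, σ (u : G) w = w) (hdet : ∀ h ∈ H, LinearMap.det (σ h) = 1)
    {y : G} (hy : y ∈ H) (htr : TrGen F σ y) (hyF : (LinearMap.trace K W (σ y)) ^ Module.finrank K W ∈ F) :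
    F ≤ Subfield.closure {c | ∃ b : M, (∀ u ∈ U, b * u * b⁻¹ ∈ U) ∧ σ (b : G) w = c • w} := by
  classical
  let C : Set K := {c | ∃ b : M, (∀ u ∈ U, b * u * b⁻¹ ∈ U) ∧ σ (b : G) w = c • w}
  have hCfin : C.Finite := by
    have h1 : C ⊆ ⋃ b : M, {c | σ (b : G) w = c • w} := by
      rintro c ⟨b, -, hb⟩
      exact Set.mem_iUnion.2 ⟨b, hb⟩
    refine (Set.finite_iUnion fun b => ?_).subset h1
    apply Set.Subsingleton.finite
    intro c hc c' hc'
    have : (c : K) • w = c' • w := Eq.trans (Eq.symm hc) hc'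
    exact smul_left_injective K hw this
  obtain ⟨E, hE, hCE⟩ := lf C hCfin
  have hle : Subfield.closure C ≤ E := Subfield.closure_le.2 hCE
  have hfin : Finite (Subfield.closure C) := Finite.of_injective (Subfield.inclusion hle) (RingHom.injective _)
  have h1 := Cfsg.Agent.H601.BR.fld σ hMH hn hc hirr hz hw hu (Subfield.closure C)
    (fun b c hbu hbw => Subfield.subset_closure ⟨b, hbu, hbw⟩) hdet y hy
  by_contra hcon
  refine htr (F ⊓ Subfield.closure C) (lt_of_le_of_ne inf_le_left fun h => hcon ?_) ⟨hyF, h1⟩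
  rw [← h]
  exact inf_le_right

/-- a perfect group acts with determinant one -/
theorem det_one {K V G : Type} [Field K] [AddCommGroup V] [Module K V] [Group G] (hG : commutator G = ⊤)
    (ρ : G →* Module.End K V) (g : G) : LinearMap.det (ρ g) = 1 := by
  have h1 : Units.map (LinearMap.det : Module.End K V →* K) (ρ.toHomUnits g) = 1 := by
    have h2 : commutator G ≤ ((Units.map (LinearMap.det : Module.End K V →* K)).comp ρ.toHomUnits).ker :=
      Abelianization.commutator_subset_ker _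
    have h3 : g ∈ commutator G := by rw [hG]; trivial
    exact h2 h3
  have h2 := congrArg Units.val h1
  simpa using h2

/-- the statement of `ext_V` -/
def ExtV : Prop := ∀ (m q : ℕ) (K : Type) [Field K] (F : Subfield K) (V : Type) [AddCommGroup V] [Module K V]
    (B : LinearMap.BilinForm K V) (G : Type) [Group G] (ρ : G →* Module.End K V)
    (b : Module.Basis (Fin m ⊕ Fin m) K V) (W : Type) [AddCommGroup W] [Module K W] (σ : G →* Module.End K W)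
    (π : Lam0 B →ₗ[K] W), SpD m q F B ρ b → WD B ρ σ π → ∀ U : Subgroup G, IsPGroup 2 U → U ≠ ⊥ → ∀ v : V, v ≠ 0 →
    (∀ x : V, (∀ u ∈ U, ρ u x = x) ↔ ∃ c : K, x = c • v) → ∀ w : W, w ≠ 0 →
    (∀ x : W, (∀ u ∈ U, σ u x = x) ↔ ∃ c : K, x = c • w) →
    ∃ v0 v1 : V, (∀ i, b.repr v0 i ∈ F) ∧ (∀ i, b.repr v1 i ∈ F) ∧ v0 ≠ 0 ∧ B v0 v1 = 0 ∧ (¬ ∃ c : K, v1 = c • v0) ∧
      (∀ u ∈ U, ρ u v0 = v0) ∧ (∃ Y : Lam0 B, (Y : Module.End K V) = wd B v0 v1 ∧ ∃ c : K, c ≠ 0 ∧ w = c • π Y) ∧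
      ∃ z ∈ U, ∃ α ∈ F, ∃ β ∈ F, (α ≠ 0 ∨ β ≠ 0) ∧ ρ z = 1 + α • sq B v0 + β • wd B v0 v1

section

variable {m q : ℕ} {K : Type} [Field K] {F : Subfield K} {V : Type} [AddCommGroup V] [Module K V]
  {B : LinearMap.BilinForm K V} {G : Type} [Group G] {ρ : G →* Module.End K V}
  {b : Module.Basis (Fin m ⊕ Fin m) K V} {W : Type} [AddCommGroup W] [Module K W] {σ : G →* Module.End K W}
  {π : Lam0 B →ₗ[K] W}

/-- scalars in `G` are trivial -/
theorem scalar_eq_one (D : SpD m q F B ρ b) {g : G} {c : K} (h : ρ g = c • 1) : g = 1 := by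
  have := D.char
  have hm : 0 < m := by have := D.two_le; omega
  have h1 := D.iso g (b (Sum.inl ⟨0, hm⟩)) (b (Sum.inr ⟨0, hm⟩))
  rw [h, LinearMap.smul_apply, LinearMap.smul_apply, Module.End.one_apply, Module.End.one_apply, map_smul, map_smul,
    LinearMap.smul_apply, D.lr, if_pos rfl, smul_eq_mul, smul_eq_mul, mul_one] at h1
  have hc : c = 1 := by
    have h2 : (c - 1) ^ 2 = 0 := by
      have h3 := add_self_K D c
      have h4 : (c - 1) ^ 2 = c * c - (c + c) + 1 := by ring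
      rw [h4, h1, h3, sub_zero]
      exact add_self_K D 1
    exact sub_eq_zero.1 (pow_eq_zero_iff two_ne_zero |>.1 h2)
  apply D.inj
  rw [h, hc, one_smul, map_one]

/-- **the three cases for `M`** -/
theorem core (hext : ExtV) (D : SpD m q F B ρ b) (hW : WD B ρ σ π)
    (hd : 2 * m ^ 2 - m - 1 ≤ Module.finrank K (Lam0 B))
    (hlam : ∀ S : Submodule K (Module.End K V), Inv (ad ρ) ⊤ S → ∀ X ∈ S, X ∈ Lam B → (¬ ∃ c : K, X = c • 1) →
      Lam0 B ≤ S)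
    {H M : Subgroup G} (hMH : M ≤ H) (hn : ∀ h ∈ H, ∀ m ∈ M, h * m * h⁻¹ ∈ M) (hMd : Dns (ad ρ) M) (hMi : Irr ρ M)
    (hzc : ∀ z : M, z ∈ Subgroup.center M → z = 1) {U : Subgroup M} (hU : CRG.{0, 0, 0} 2 U)
    {y : G} (hy : y ∈ H) (ht : TrGen F ρ y) (ht' : TrGen F σ y) :
    Irr σ M ∧ (CaseI B ρ F M ∨ CaseII B ρ F M ∨ ∃ (v0 : V) (w : W), v0 ≠ 0 ∧ w ≠ 0 ∧
      (∀ u ∈ U, ρ (u : G) v0 = v0) ∧ (∀ u ∈ U, σ (u : G) w = w) ∧
      (∀ g : M, (∃ c : K, ρ (g : G) v0 = c • v0) ↔ ∃ c : K, σ (g : G) w = c • w) ∧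
        ∃ j : ℕ, ∀ (g : M) (c : K), (∀ u ∈ U, g * u * g⁻¹ ∈ U) → ρ (g : G) v0 = c • v0 →
          σ (g : G) w = c ^ 2 ^ j • w) := by
  classical
  have := D.finF
  have := D.char
  have := D.closed
  have := D.finG
  have : Fact (Nat.Prime 2) := ⟨Nat.prime_two⟩
  have hfV : FiniteDimensional K V := Cfsg.Agent.H601.BR.V_fd b
  have hfW : FiniteDimensional K W := Cfsg.Agent.H601.BR.W_fd D hW
  have hWi : Irr σ M := Cfsg.Agent.H601.BR.W_irr D hW hd hlam hMd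
  refine ⟨hWi, ?_⟩
  have hzV : ∀ z : M, z ∈ Subgroup.center M → ρ z = 1 := fun z hz => by
    rw [hzc z hz, Subgroup.coe_one, map_one]
  have hzW : ∀ z : M, z ∈ Subgroup.center M → σ z = 1 := fun z hz => by
    rw [hzc z hz, Subgroup.coe_one, map_one]
  obtain ⟨v, hv0, hv⟩ := hU.one K V (ρ.comp M.subtype) (Cfsg.Agent.H601.BR.irr_comp hMi) hzV
  obtain ⟨w, hw0, hw⟩ := hU.one K W (σ.comp M.subtype) (Cfsg.Agent.H601.BR.irr_comp hWi) hzW
  -- `U` as a subgroup of `G`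
  have hmem : ∀ u : G, u ∈ U.map M.subtype ↔ ∃ u' ∈ U, (u' : G) = u := fun u => Subgroup.mem_map
  have hUp : IsPGroup 2 (U.map M.subtype) := hU.isP.map _
  have hUne : U.map M.subtype ≠ ⊥ := by
    intro h
    exact hU.ne ((Subgroup.map_eq_bot_iff_of_injective _ M.subtype_injective).1 h)
  obtain ⟨v0, v1, r0, r1, h0, h01, hv1, hfix, ⟨Y0, hY0, c0, hc0, hwc⟩, z, hzU, α, -, β, -, hαβ, hz⟩ :=
    hext m q K F V B G ρ b W σ π D hW (U.map M.subtype) hUp hUne v hv0 (fun x => by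
      rw [← hv x]
      constructor
      · intro h u hu; exact h _ ((hmem _).2 ⟨u, hu, rfl⟩)
      · intro h u hu
        obtain ⟨u', hu', rfl⟩ := (hmem _).1 hu
        exact h u' hu') w hw0 (fun x => by
      rw [← hw x]
      constructor
      · intro h u hu; exact h _ ((hmem _).2 ⟨u, hu, rfl⟩)
      · intro h u hu
        obtain ⟨u', hu', rfl⟩ := (hmem _).1 hu
        exact h u' hu')
  have hfix' : ∀ u ∈ U, ρ (u : G) v0 = v0 := fun u hu => hfix _ ((hmem _).2 ⟨u, hu, rfl⟩)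
  obtain ⟨d0, hd0⟩ := (hv v0).1 hfix'
  have hd00 : d0 ≠ 0 := by rintro rfl; rw [zero_smul] at hd0; exact h0 hd0
  have hv' : ∀ x : V, (∀ u ∈ U, ρ (u : G) x = x) ↔ ∃ c : K, x = c • v0 := by
    intro x
    refine Iff.trans (hv x) ⟨?_, ?_⟩
    · rintro ⟨c, rfl⟩
      exact ⟨c * d0⁻¹, by rw [hd0, smul_smul, mul_assoc, inv_mul_cancel₀ hd00, mul_one]⟩
    · rintro ⟨c, rfl⟩
      exact ⟨c * d0, by rw [hd0, smul_smul]⟩
  have hw' : ∀ x : W, (∀ u ∈ U, σ (u : G) x = x) ↔ ∃ c : K, x = c • π Y0 := by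
    intro x
    refine Iff.trans (hw x) ⟨?_, ?_⟩
    · rintro ⟨c, rfl⟩
      exact ⟨c * c0, by rw [hwc, smul_smul]⟩
    · rintro ⟨c, rfl⟩
      exact ⟨c * c0⁻¹, by rw [hwc, smul_smul, mul_assoc, inv_mul_cancel₀ hc0, mul_one]⟩
  have hπ0 : π Y0 ≠ 0 := by
    intro h; rw [h, smul_zero] at hwc; exact hw0 hwc
  have hfixW : ∀ u ∈ U, σ (u : G) (π Y0) = π Y0 := (hw' _).2 ⟨1, by rw [one_smul]⟩
  have hdV : ∀ h ∈ H, LinearMap.det (ρ h) = 1 := fun h _ => det_one D.qs.perf ρ h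
  have hdW : ∀ h ∈ H, LinearMap.det (σ h) = 1 := fun h _ => det_one D.qs.perf σ h
  have hF0 := le_closure D.locfin ρ hMH hn hU hMi hzV h0 hfix' hdV hy ht
    (F.pow_mem (Cfsg.Agent.H601.BR.V_trF D y) _)
  have hF1 := le_closure D.locfin σ hMH hn hU hWi hzW hπ0 hfixW hdW hy ht'
    (F.pow_mem (Cfsg.Agent.H601.BR.W_trF D hW y) _)
  have hz' : ∃ z ∈ M, ρ z = 1 + α • sq B v0 + β • wd B v0 v1 := by
    obtain ⟨z', hz', rfl⟩ := (hmem _).1 hzU
    exact ⟨z', z'.2, hz⟩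
  rcases cases_core D hW r0 r1 h0 h01 hv1 hv' hY0 hw' hαβ hz' hF0 hF1 with h | h | ⟨h1, h2⟩
  · exact Or.inl h
  · exact Or.inr (Or.inl h)
  · exact Or.inr (Or.inr ⟨v0, π Y0, h0, hπ0, hfix', hfixW, h1, h2⟩)

end

end Cfsg.Agent.H94.BR
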