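import Cfsg.Agent.H94.BR.SpRowB
import Cfsg.Agent.H886.BR.SpModel
import Cfsg.Agent.H883.BR.RowOf

/-!
# HUB BR, `Sp_{2m}(2^f)`: the concrete groups
-/

set_option autoImplicit false

namespace Cfsg.Agent.H94.BR

open Cfsg Cfsg.Agent.H883.BR Cfsg.Agent.H215.BR
open Cfsg.Agent.ClassicalGeometry.SympBasic Cfsg.Agent.H107.SpTr Cfsg.Agent.H107.SpConj

/-- the end of the proof for the concrete groups -/
def EndHyp (m : ℕ) : Prop := ∃ q₀ : ℕ, ∀ (F : Type) [Field F] [Fintype F], q₀ ≤ Fintype.card F →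
  Even (Fintype.card F) → ∀ [CharP (AlgebraicClosure F) 2] [PerfectRing (AlgebraicClosure F) 2],
    EndSt (fr F (AlgebraicClosure F)) (sympBilin m (AlgebraicClosure F)) (rho (m := m) (F := F) (AlgebraicClosure F))
      (rhoh (m := m) (F := F) (AlgebraicClosure F))

/-- the module facts -/
def ModHyp : Prop := ∀ (m q : ℕ) (K : Type) [Field K] (F : Subfield K) (V : Type) [AddCommGroup V] [Module K V]
    (B : LinearMap.BilinForm K V) (G : Type) [Group G] (ρ : G →* Module.End K V)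
    (b : Module.Basis (Fin m ⊕ Fin m) K V), SpD m q F B ρ b → ModF (m := m) B ρ

theorem strSt (h : StStr.{0, 0, 0}) (n : ℕ) : StrSt n := by
  obtain ⟨C, hC⟩ := h n
  refine ⟨C, ?_⟩
  intro K _ _ _ lf G _ _ V _ _ _ ρ
  exact hC 2 Nat.prime_two K lf G V ρ

theorem crgSt (h : StCRG.{0, 0, 0}) : CrgSt := by
  intro M _ _ hp hs hl hc
  have : Fact (Nat.Prime 2) := ⟨Nat.prime_two⟩
  exact h 2 M hp hs hl (by rw [hc]; norm_num)

theorem charP_two {F : Type} [Field F] [Fintype F] (hF : Even (Fintype.card F)) : CharP F 2 := by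
  obtain ⟨p, hp⟩ := CharP.exists F
  have hpp : p.Prime := CharP.char_is_prime F p
  obtain ⟨n, _, hn⟩ := FiniteField.card F p
  have h2 : 2 ∣ p := Nat.Prime.dvd_of_dvd_pow Nat.prime_two (hn ▸ hF.two_dvd)
  have h3 : p = 2 := ((Nat.prime_dvd_prime_iff_eq Nat.prime_two hpp).1 h2).symm
  rwa [h3] at hp

/-- **`Sp_{2m}(2^f)`, `m ≥ 3`** -/
theorem row_sp_even_of (hstr : StStr.{0, 0, 0}) (hcrg : StCRG.{0, 0, 0}) (hext : ExtV) (hmod : ModHyp) (m : ℕ)
    (hend : EndHyp m) (hm : 3 ≤ m) : ∃ C q₀ : ℕ, ∀ (F : Type) [Field F] [Fintype F], q₀ ≤ Fintype.card F →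
    Even (Fintype.card F) → Row.{0, 0} C (Fintype.card F) (Matrix.symplecticGroup (Fin m) F) := by
  obtain ⟨C, q₁, h⟩ := row_abs m hm (strSt hstr _) (crgSt hcrg) hext
  obtain ⟨q₂, h2⟩ := hend
  refine ⟨C, max (max q₁ q₂) 4, ?_⟩
  intro F _ _ hq hF
  have hq1 : q₁ ≤ Fintype.card F := ((le_max_left _ _).trans (le_max_left _ _)).trans hq
  have hq2 : q₂ ≤ Fintype.card F := ((le_max_right _ _).trans (le_max_left _ _)).trans hq
  have hq4 : 4 ≤ Fintype.card F := (le_max_right _ _).trans hq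
  have hc : CharP F 2 := charP_two hF
  have hcK : CharP (AlgebraicClosure F) 2 := Cfsg.Agent.H212.BR.charP_closure F 2
  have hpF : PerfectRing F 2 := inferInstance
  have hpK : PerfectRing (AlgebraicClosure F) 2 := inferInstance
  have D := Cfsg.Agent.H886.BR.spd m F hF hq4 (by omega)
  exact h _ _ _ _ _ _ _ _ (Vn m (AlgebraicClosure F) × AlgebraicClosure F) (rhoh (AlgebraicClosure F)) _
    (xs (AlgebraicClosure F)) hq1 D (hmod _ _ _ _ _ _ _ _ _ D) (h2 F hq2 hF) inferInstance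
    (Cfsg.Agent.H886.BR.finrank_Vh m _) oneP polyDeg_rho polyDeg_rhoh
    (fun k hk hkq => Cfsg.Agent.H886.BR.exists_pow_ne (by omega) hk hkq)

/-- **`Sp_4(2^f)`** -/
theorem row2_sp4_of (hstr : StStr.{0, 0, 0}) (hcrg : StCRG.{0, 0, 0}) (hext : ExtV) (hmod : ModHyp)
    (hend : EndHyp 2) : ∃ C q₀ : ℕ, ∀ (F : Type) [Field F] [Fintype F], q₀ ≤ Fintype.card F →
    Even (Fintype.card F) → Cfsg.Agent.H815.BR.Row2.{0, 0} C (Fintype.card F) (Matrix.symplecticGroup (Fin 2) F) := by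
  obtain ⟨C, q₁, h⟩ := row2_abs (strSt hstr _) (crgSt hcrg) hext
  obtain ⟨q₂, h2⟩ := hend
  refine ⟨C, max (max q₁ q₂) 4, ?_⟩
  intro F _ _ hq hF
  have hq1 : q₁ ≤ Fintype.card F := ((le_max_left _ _).trans (le_max_left _ _)).trans hq
  have hq2 : q₂ ≤ Fintype.card F := ((le_max_right _ _).trans (le_max_left _ _)).trans hq
  have hq4 : 4 ≤ Fintype.card F := (le_max_right _ _).trans hq
  have hc : CharP F 2 := charP_two hF
  have hcK : CharP (AlgebraicClosure F) 2 := Cfsg.Agent.H212.BR.charP_closure F 2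
  have hpF : PerfectRing F 2 := inferInstance
  have hpK : PerfectRing (AlgebraicClosure F) 2 := inferInstance
  have D := Cfsg.Agent.H886.BR.spd 2 F hF hq4 (by omega)
  exact h _ _ _ _ _ _ _ _ (Vn 2 (AlgebraicClosure F) × AlgebraicClosure F) (rhoh (AlgebraicClosure F)) _
    (xs (AlgebraicClosure F)) hq1 D (hmod _ _ _ _ _ _ _ _ _ D) (h2 F hq2 hF) inferInstance
    (Cfsg.Agent.H886.BR.finrank_Vh 2 _) oneP polyDeg_rho polyDeg_rhoh
    (fun k hk hkq => Cfsg.Agent.H886.BR.exists_pow_ne (by omega) hk hkq)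

end Cfsg.Agent.H94.BR
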