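import Cfsg.Agent.H94.BR.SpFin
import Cfsg.Agent.H94.BR.FinB
import Cfsg.Agent.H215.BR.SpEnd
import Cfsg.Agent.H601.BR.SpExt
import Cfsg.Agent.H601.BR.SpNil
import Cfsg.Agent.H886.BR.SpIrrV
import Cfsg.Agent.H124.BR.LamSub

/-!
# HUB BR, `Sp_{2m}(2^f)`: final form (modulo C8 and D1 + D2, which have large closures)
-/

set_option autoImplicit false

namespace Cfsg.Agent.H94.BR

open Cfsg Cfsg.Agent.H883.BR Cfsg.Agent.H215.BR
open Cfsg.Agent.ClassicalGeometry.SympBasic Cfsg.Agent.H107.SpTr Cfsg.Agent.H107.SpConj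

theorem extV : ExtV := by
  intro m q K _ F V _ _ B G _ ρ b W _ _ σ π D hW U hU hne v hv hvU w hw hwU
  exact Cfsg.Agent.H601.BR.ext_V D (fun Y hY h => Cfsg.Agent.H601.BR.nil_mem D hY h) hW hU hne hv hvU hw hwU

theorem modHyp : ModHyp := by
  intro m q K _ F V _ _ B G _ ρ b D
  exact
    { irr := Cfsg.Agent.H886.BR.irr_V D
      tprim := Cfsg.Agent.H886.BR.tprim_V D
      dim := Cfsg.Agent.H601.BR.le_finrank_lam0 D
      lam := fun S hS X hX hL hn => Cfsg.Agent.H124.BR.lam_sub D hS hX hL hn }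

theorem endHyp (m : ℕ) (hm : 2 ≤ m) : EndHyp m := by
  obtain ⟨q₀, h⟩ := Cfsg.Agent.H215.BR.sp_end_cases m hm
  refine ⟨q₀, ?_⟩
  intro F _ _ hq _ _ _
  intro H M _ hn hD hDh hc
  exact h F (AlgebraicClosure F) hq H M hn hD hDh hc

/-- **`Sp_{2m}(2^f)`, `m ≥ 3`** -/
theorem row_sp_even' (hstr : StStr.{0, 0, 0}) (hcrg : StCRG.{0, 0, 0}) (m : ℕ) (hm : 3 ≤ m) :
    ∃ C q₀ : ℕ, ∀ (F : Type) [Field F] [Fintype F], q₀ ≤ Fintype.card F →
    Even (Fintype.card F) → Row.{0, 0} C (Fintype.card F) (Matrix.symplecticGroup (Fin m) F) :=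
  row_sp_even_of hstr hcrg extV modHyp m (endHyp m (by omega)) hm

/-- **`Sp_4(2^f)`** -/
theorem row2_sp4' (hstr : StStr.{0, 0, 0}) (hcrg : StCRG.{0, 0, 0}) :
    ∃ C q₀ : ℕ, ∀ (F : Type) [Field F] [Fintype F], q₀ ≤ Fintype.card F →
    Even (Fintype.card F) → Cfsg.Agent.H815.BR.Row2.{0, 0} C (Fintype.card F) (Matrix.symplecticGroup (Fin 2) F) :=
  row2_sp4_of hstr hcrg extV modHyp (endHyp 2 le_rfl)

/-- all `m ≥ 2` -/
theorem rspE (hstr : StStr.{0, 0, 0}) (hcrg : StCRG.{0, 0, 0}) : Fin.RSpE := by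
  intro m hm
  rcases Nat.lt_or_ge 2 m with h | h
  · obtain ⟨C, q₀, h1⟩ := row_sp_even' hstr hcrg m h
    exact ⟨C, q₀, fun F _ _ hq hF => Cfsg.Agent.H815.BR.Row2.of_row (h1 F hq hF)⟩
  · have h2 : m = 2 := by omega
    subst h2
    exact row2_sp4' hstr hcrg

end Cfsg.Agent.H94.BR
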