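import Cfsg.Agent.H94.BR.SpCore
import Cfsg.Agent.H583.BR.Trn
import Cfsg.Agent.H886.BR.Cls

/-!
# HUB BR, `Sp_{2m}(2^f)`: assembly

`R = ad (ad ρ) ⊕ ad ρ̂`.
-/

set_option autoImplicit false

namespace Cfsg.Agent.H94.BR

open Cfsg.Agent.H883.BR

section prod

variable {K : Type} [Field K] {G : Type} [Group G] {V₁ V₂ : Type} [AddCommGroup V₁] [Module K V₁]
  [AddCommGroup V₂] [Module K V₂]

/-- direct sum of two representations -/
def prodR (ρ₁ : G →* Module.End K V₁) (ρ₂ : G →* Module.End K V₂) : G →* Module.End K (V₁ × V₂) where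
  toFun g := LinearMap.prodMap (ρ₁ g) (ρ₂ g)
  map_one' := by rw [map_one, map_one]; rfl
  map_mul' g h := by rw [map_mul, map_mul]; rfl

theorem prodR_apply (ρ₁ : G →* Module.End K V₁) (ρ₂ : G →* Module.End K V₂) (g : G) :
    prodR ρ₁ ρ₂ g = LinearMap.prodMap (ρ₁ g) (ρ₂ g) := rfl

theorem dns_left {ρ₁ : G →* Module.End K V₁} {ρ₂ : G →* Module.End K V₂} {H : Subgroup G}
    (h : Dns (prodR ρ₁ ρ₂) H) : Dns ρ₁ H := by
  intro U hU g hg v hv
  have h1 := h (U.prod ⊥) (by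
    rintro g hg ⟨x, y⟩ ⟨hx, hy⟩
    refine ⟨hU g hg x hx, ?_⟩
    rw [SetLike.mem_coe, Submodule.mem_bot] at hy
    change ρ₂ g y = 0
    rw [show y = 0 from hy, map_zero])
  exact (h1 g hg (v, 0) ⟨hv, (Submodule.mem_bot K).2 rfl⟩).1

theorem dns_right {ρ₁ : G →* Module.End K V₁} {ρ₂ : G →* Module.End K V₂} {H : Subgroup G}
    (h : Dns (prodR ρ₁ ρ₂) H) : Dns ρ₂ H := by
  intro U hU g hg v hv
  have h1 := h ((⊥ : Submodule K V₁).prod U) (by
    rintro g hg ⟨x, y⟩ ⟨hx, hy⟩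
    refine ⟨?_, hU g hg y hy⟩
    rw [SetLike.mem_coe, Submodule.mem_bot] at hx
    change ρ₁ g x = 0
    rw [show x = 0 from hx, map_zero])
  exact (h1 g hg (0, v) ⟨(Submodule.mem_bot K).2 rfl, hv⟩).2

theorem polyDeg_mono {F : Subfield K} {ι : Type} {x : ι → F → G} {ρ : G →* Module.End K V₁} {e e' : ℕ}
    (h : PolyDeg ρ F x e) (hee : e ≤ e') : PolyDeg ρ F x e' := by
  intro i
  obtain ⟨c, hc⟩ := h i
  refine ⟨fun j => if j ≤ e then c j else 0, fun t => ?_⟩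
  rw [hc t]
  have h1 : Finset.range (e + 1) ⊆ Finset.range (e' + 1) := by
    intro j hj
    rw [Finset.mem_range] at hj ⊢
    omega
  rw [← Finset.sum_subset h1]
  · refine Finset.sum_congr rfl fun j hj => ?_
    rw [Finset.mem_range] at hj
    show _ = _ • (if j ≤ e then c j else 0)
    rw [if_pos (by omega)]
  · intro j _ hj
    rw [Finset.mem_range] at hj
    show _ • (if j ≤ e then c j else 0) = 0
    rw [if_neg (by omega), smul_zero]

theorem polyDeg_prod {F : Subfield K} {ι : Type} {x : ι → F → G} {ρ₁ : G →* Module.End K V₁}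
    {ρ₂ : G →* Module.End K V₂} {e : ℕ} (h₁ : PolyDeg ρ₁ F x e) (h₂ : PolyDeg ρ₂ F x e) :
    PolyDeg (prodR ρ₁ ρ₂) F x e := by
  intro i
  obtain ⟨c, hc⟩ := h₁ i
  obtain ⟨d, hd⟩ := h₂ i
  refine ⟨fun j => LinearMap.prodMap (c j) (d j), fun t => ?_⟩
  rw [prodR_apply, hc t, hd t]
  refine LinearMap.ext fun v => Prod.ext ?_ ?_
  · simp [LinearMap.sum_apply, Prod.fst_sum]
  · simp [LinearMap.sum_apply, Prod.snd_sum]

end prod

/-- the statement of `str` (structure of `H`), characteristic two -/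
def StrSt (n : ℕ) : Prop := ∃ B : ℕ, ∀ (K : Type) [Field K] [CharP K 2] [IsAlgClosed K]
    (_ : ∀ S : Set K, S.Finite → ∃ E : Subfield K, Finite E ∧ S ⊆ E)
    (G : Type) [Group G] [Finite G] (V : Type) [AddCommGroup V] [Module K V] [FiniteDimensional K V]
    (ρ : G →* Module.End K V), Module.finrank K V = n → 2 ≤ n → Function.Injective ρ → QS G → Irr ρ ⊤ → TPrim ρ →
    ∀ H : Subgroup G, Dns (ad (ad ρ)) H → ∀ y ∈ H, (∀ k, 0 < k → k ≤ B → ¬ ∃ c : K, ρ (y ^ k) = c • 1) →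
    ∃ M : Subgroup G, M ≤ H ∧ (∀ h ∈ H, ∀ m ∈ M, h * m * h⁻¹ ∈ M) ∧ Dns (ad ρ) M ∧ Irr ρ M ∧ commutator M = ⊤ ∧
      IsSimpleGroup (M ⧸ Subgroup.center M) ∧ ¬ IsMulCommutative (M ⧸ Subgroup.center M) ∧
      Cfsg.IsLieTypeChar 2 (M ⧸ Subgroup.center M) ∧ ∀ z : M, z ∈ Subgroup.center M ↔ ∃ c : K, ρ z = c • 1

/-- the statement of Curtis and Richen, characteristic two -/
def CrgSt : Prop := ∀ (M : Type) [Group M] [Finite M], commutator M = ⊤ → IsSimpleGroup (M ⧸ Subgroup.center M) →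
  Cfsg.IsLieTypeChar 2 (M ⧸ Subgroup.center M) → Nat.card (Subgroup.center M) = 1 →
  ∃ U : Subgroup M, CRG.{0, 0, 0} 2 U

/-- the statement of `twi_of_crg` -/
def TwiSt : Prop := ∀ (K : Type) [Field K] [CharP K 2] [IsAlgClosed K] (V W : Type) [AddCommGroup V] [Module K V]
    [FiniteDimensional K V] [AddCommGroup W] [Module K W] [FiniteDimensional K W] (G : Type) [Group G] [Finite G]
    (ρ : G →* Module.End K V) (σ : G →* Module.End K W) (M : Subgroup G) (U : Subgroup M), CRG.{0, 0, 0} 2 U →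
    Irr ρ M → Irr σ M → (∀ z : M, z ∈ Subgroup.center M → ρ z = 1 ∧ σ z = 1) → ∀ (v0 : V) (w : W), v0 ≠ 0 → w ≠ 0 →
    (∀ u ∈ U, ρ (u : G) v0 = v0) → (∀ u ∈ U, σ (u : G) w = w) → ∀ j : ℕ,
    (∀ (b : M) (c : K), (∀ u ∈ U, b * u * b⁻¹ ∈ U) → ρ (b : G) v0 = c • v0 → σ (b : G) w = c ^ 2 ^ j • w) →
    (∀ g : M, (∃ c : K, ρ (g : G) v0 = c • v0) ↔ ∃ c : K, σ (g : G) w = c • w) → ∃ φ : V → W, Twi ρ σ M j φ

/-- isomorphic modules have the same dimension -/
def TwiDim : Prop := ∀ (K : Type) [Field K] [CharP K 2] [IsAlgClosed K] (V W : Type) [AddCommGroup V] [Module K V]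
    [FiniteDimensional K V] [AddCommGroup W] [Module K W] [FiniteDimensional K W] (G : Type) [Group G]
    (ρ : G →* Module.End K V) (σ : G →* Module.End K W) (M : Subgroup G) (j : ℕ) (φ : V → W), Twi ρ σ M j φ →
    Module.finrank K V = Module.finrank K W

/-- the traces of the normaliser -/
def TwiTr : Prop := ∀ (K : Type) [Field K] [CharP K 2] [IsAlgClosed K] (V W : Type) [AddCommGroup V] [Module K V]
    [FiniteDimensional K V] [AddCommGroup W] [Module K W] [FiniteDimensional K W] (G : Type) [Group G] [Finite G]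
    (ρ : G →* Module.End K V) (σ : G →* Module.End K W) (H M : Subgroup G) (j : ℕ) (φ : V → W), Twi ρ σ M j φ →
    M ≤ H → (∀ h ∈ H, ∀ m ∈ M, h * m * h⁻¹ ∈ M) → Irr ρ M → (∀ h ∈ H, LinearMap.det (ρ h) = 1) →
    (∀ h ∈ H, LinearMap.det (σ h) = 1) → ∀ s : ℕ, Module.finrank K V = 2 ^ s → ∀ h ∈ H,
    LinearMap.trace K W (σ h) = (LinearMap.trace K V (ρ h)) ^ 2 ^ j

/-- the module facts -/
structure ModF {m : ℕ} {K : Type} [Field K] {V : Type} [AddCommGroup V] [Module K V] (B : LinearMap.BilinForm K V)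
    {G : Type} [Group G] (ρ : G →* Module.End K V) : Prop where
  irr : Irr ρ ⊤
  tprim : TPrim ρ
  dim : 2 * m ^ 2 - m - 1 ≤ Module.finrank K (Lam0 B)
  lam : ∀ S : Submodule K (Module.End K V), Inv (ad ρ) ⊤ S → ∀ X ∈ S, X ∈ Lam B → (¬ ∃ c : K, X = c • 1) →
      Lam0 B ≤ S

/-- the end of the proof (helper215) -/
def EndSt {K : Type} [Field K] (F : Subfield K) {V Vh : Type} [AddCommGroup V] [Module K V] [AddCommGroup Vh]
    [Module K Vh] (B : LinearMap.BilinForm K V) {G : Type} [Group G] (ρ : G →* Module.End K V)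
    (ρh : G →* Module.End K Vh) : Prop :=
  ∀ H M : Subgroup G, M ≤ H → (∀ h ∈ H, ∀ m ∈ M, h * m * h⁻¹ ∈ M) → Dns (ad ρ) H → Dns (ad ρh) H →
    CaseI B ρ F M ∨ CaseII B ρ F M → M = ⊤

section

variable {m q : ℕ} {K : Type} [Field K] {F : Subfield K} {V : Type} [AddCommGroup V] [Module K V]
  {B : LinearMap.BilinForm K V} {G : Type} [Group G] {ρ : G →* Module.End K V}
  {b : Module.Basis (Fin m ⊕ Fin m) K V} {W : Type} [AddCommGroup W] [Module K W] {σ : G →* Module.End K W}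
  {π : Lam0 B →ₗ[K] W} {Vh : Type} [AddCommGroup Vh] [Module K Vh] {ρh : G →* Module.End K Vh}

/-- **typical `H` is everything** -/
theorem top_or (m : ℕ) (hstr : StrSt (2 * m)) (hcrg : CrgSt) (htwi : TwiSt) (hdim : TwiDim) (htr : TwiTr)
    (hext : ExtV) : ∃ C : ℕ, ∀ (q : ℕ) (K : Type) [Field K] (F : Subfield K) (V : Type) [AddCommGroup V] [Module K V]
    (B : LinearMap.BilinForm K V) (G : Type) [Group G] (ρ : G →* Module.End K V)
    (b : Module.Basis (Fin m ⊕ Fin m) K V) (W : Type) [AddCommGroup W] [Module K W] (σ : G →* Module.End K W)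
    (π : Lam0 B →ₗ[K] W) (Vh : Type) [AddCommGroup Vh] [Module K Vh] (ρh : G →* Module.End K Vh),
    SpD m q F B ρ b → WD B ρ σ π → ModF (m := m) B ρ → EndSt F B ρ ρh →
    ∀ H : Subgroup G, Dns (ad (ad ρ)) H → Dns (ad ρh) H → ∀ y ∈ H, (∀ k, 0 < k → k ≤ C → y ^ k ≠ 1) →
    TrGen F ρ y → TrGen F σ y →
    H = ⊤ ∨ (m = 2 ∧ ∃ j : ℕ, LinearMap.trace K W (σ y) = (LinearMap.trace K V (ρ y)) ^ 2 ^ j) := by
  obtain ⟨C, hC⟩ := hstr
  refine ⟨C, ?_⟩
  intro q K _ F V _ _ B G _ ρ b W _ _ σ π Vh _ _ ρh D hW hmod hEnd H hH hHh y hy hk ht ht'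
  have := D.char
  have := D.closed
  have := D.finG
  have hfV : FiniteDimensional K V := Cfsg.Agent.H601.BR.V_fd b
  have hfW : FiniteDimensional K W := Cfsg.Agent.H601.BR.W_fd D hW
  have hm := D.two_le
  obtain ⟨M, hMH, hn, hMd, hMi, hMp, hMs, -, hMl, hMz⟩ := hC K D.locfin G V ρ (Cfsg.Agent.H601.BR.V_dim b)
    (by omega) D.inj D.qs hmod.irr hmod.tprim H hH y hy (fun k hk0 hkC ⟨c, hc⟩ => hk k hk0 hkC (scalar_eq_one D hc))
  have hzc : ∀ z : M, z ∈ Subgroup.center M → z = 1 := fun z hz => by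
    obtain ⟨c, hc⟩ := (hMz z).1 hz
    exact Subtype.ext (scalar_eq_one D hc)
  have hcard : Nat.card (Subgroup.center M) = 1 := by
    have : Subgroup.center M = ⊥ := by
      rw [eq_bot_iff]
      intro z hz
      exact Subgroup.mem_bot.2 (hzc z hz)
    rw [this, Subgroup.card_bot]
  obtain ⟨U, hU⟩ := hcrg M hMp hMs hMl hcard
  obtain ⟨hWi, h⟩ := core hext D hW hmod.dim hmod.lam hMH hn hMd hMi hzc hU hy ht ht'
  have htop : CaseI B ρ F M ∨ CaseII B ρ F M → H = ⊤ := by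
    intro h1
    have h2 := hEnd H M hMH hn (Cfsg.Agent.H545.BR.dns_of_ad hH) hHh h1
    rw [eq_top_iff, ← h2]
    exact hMH
  rcases h with h | h | ⟨v0, w, hv0, hw0, hvU, hwU, hst, j, hj⟩
  · exact Or.inl (htop (Or.inl h))
  · exact Or.inl (htop (Or.inr h))
  · right
    obtain ⟨φ, hφ⟩ := htwi K V W G ρ σ M U hU hMi hWi (fun z hz => by
      rw [hzc z hz, Subgroup.coe_one, map_one, map_one]; exact ⟨rfl, rfl⟩) v0 w hv0 hw0 hvU hwU j hj hst
    have h1 := hdim K V W G ρ σ M j φ hφ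
    have h2 := Cfsg.Agent.H601.BR.le_W D hW hmod.dim
    rw [← h1, Cfsg.Agent.H601.BR.V_dim b] at h2
    have h3 : m = 2 := by
      by_contra hm2
      have h4 : 3 ≤ m := by omega
      have h5 : 3 * m ≤ m ^ 2 := by rw [pow_two]; exact Nat.mul_le_mul_right m h4
      omega
    refine ⟨h3, j, ?_⟩
    exact htr K V W G ρ σ H M j φ hφ hMH hn hMi (fun h _ => det_one D.qs.perf ρ h) (fun h _ => det_one D.qs.perf σ h)
      2 (by rw [Cfsg.Agent.H601.BR.V_dim b, h3]; norm_num) y hy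

end

end Cfsg.Agent.H94.BR
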