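import Cfsg.Agent.H94.BR.SpRow
import Cfsg.Agent.H887.BR.Twi

/-!
# HUB BR, `Sp_{2m}(2^f)`: the row
-/

set_option autoImplicit false

namespace Cfsg.Agent.H94.BR

open Cfsg.Agent.H883.BR

theorem twiSt : TwiSt := by
  intro K _ _ _ V W _ _ _ _ _ _ G _ _ ρ σ M U hc hV hW hz v0 w hv0 hw hv hwu j hb hst
  exact Cfsg.Agent.H887.BR.twi_of_crg hc hV hW hz hv0 hw hv hwu j hb hst

theorem twiDim : TwiDim := by
  intro K _ _ _ V W _ _ _ _ _ _ G _ ρ σ M j φ h
  exact Cfsg.Agent.H887.BR.finrank_eq_of_twi h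

theorem twiTr : TwiTr := by
  intro K _ _ _ V W _ _ _ _ _ _ G _ _ ρ σ H M j φ h hMH hn hV hd hd' s hs
  exact Cfsg.Agent.H887.BR.trace_eq_of_twi h hMH hn hV hd hd' hs

section

variable {m q : ℕ} {K : Type} [Field K] {F : Subfield K} {V : Type} [AddCommGroup V] [Module K V]
  {B : LinearMap.BilinForm K V} {G : Type} [Group G] {ρ : G →* Module.End K V}
  {b : Module.Basis (Fin m ⊕ Fin m) K V}

/-- `ad (ad ρ)` is faithful -/
theorem eq_one_of_adad (D : SpD m q F B ρ b) (hirr : Irr ρ ⊤) {h : G} (hh : ad (ad ρ) h = 1) : h = 1 := by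
  have := D.closed
  have : FiniteDimensional K V := Cfsg.Agent.H601.BR.V_fd b
  have h1 : ∀ X : Module.End K V, ad ρ h X = X := by
    intro X
    have h2 : ad (ad ρ) h (LinearMap.mulLeft K X) = LinearMap.mulLeft K X := by rw [hh]; rfl
    rw [ad_apply] at h2
    have h3 := congrArg (fun T : Module.End K (Module.End K V) => T 1) h2
    simp only [Module.End.mul_apply, LinearMap.mulLeft_apply, mul_one, ad_one] at h3
    exact h3
  have h2 : ρ h ∈ cent ρ ⊤ := by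
    intro g _
    have h3 := h1 (ρ g)
    rw [ad_apply] at h3
    have h4 : ρ h⁻¹ * ρ h = 1 := by rw [← map_mul, inv_mul_cancel, map_one]
    calc ρ h * ρ g = ρ h * ρ g * (ρ h⁻¹ * ρ h) := by rw [h4, mul_one]
      _ = ρ h * ρ g * ρ h⁻¹ * ρ h := by rw [← mul_assoc]
      _ = ρ g * ρ h := by rw [h3]
  obtain ⟨c, hc⟩ := Cfsg.Agent.H545.BR.cent_scalar hirr h2
  exact scalar_eq_one D hc

theorem dns_top {K V G : Type} [Field K] [AddCommGroup V] [Module K V] [Group G] {ρ : G →* Module.End K V} :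
    Dns ρ ⊤ := fun _ hU => hU

/-- `W` is not trivial -/
theorem W_ne_one (D : SpD m q F B ρ b) {W : Type} [AddCommGroup W] [Module K W] {σ : G →* Module.End K W}
    {π : Lam0 B →ₗ[K] W} (hW : WD B ρ σ π) (hd : 2 * m ^ 2 - m - 1 ≤ Module.finrank K (Lam0 B)) (hirr : Irr σ ⊤) :
    ∃ g, σ g ≠ 1 := by
  have := Cfsg.Agent.H601.BR.W_fd D hW
  by_contra hcon
  push Not at hcon
  have hn := hirr.1
  obtain ⟨w, hw⟩ := exists_ne (0 : W)
  have h1 := hirr.2 (Submodule.span K {w}) (fun g _ v hv => by rw [hcon g]; exact hv)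
  have h2 := Cfsg.Agent.H601.BR.le_W D hW hd
  have h3 : 4 ≤ Module.finrank K W := by
    have hm := D.two_le
    have h5 : 2 * m ≤ m ^ 2 := by rw [pow_two]; exact Nat.mul_le_mul_right m hm
    have h6 : 4 ≤ 2 * m ^ 2 - m - 2 := by
      have : 2 * 2 ≤ 2 * m := by omega
      omega
    omega
  rcases h1 with h1 | h1
  · rw [Submodule.span_singleton_eq_bot] at h1
    exact hw h1
  · have h4 : Module.finrank K (Submodule.span K {w}) = 1 := finrank_span_singleton hw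
    rw [h1, finrank_top] at h4
    omega

end

/-- the full package at dimension `2m`: everything except the last step -/
theorem row_pack (m : ℕ) (hstr : StrSt (2 * m)) (hcrg : CrgSt) (hext : ExtV) :
    ∃ C q₀ : ℕ, ∀ (q : ℕ) (K : Type) [Field K] (F : Subfield K) (V : Type) [AddCommGroup V] [Module K V]
    (B : LinearMap.BilinForm K V) (G : Type) [Group G] (ρ : G →* Module.End K V)
    (b : Module.Basis (Fin m ⊕ Fin m) K V) (Vh : Type) [AddCommGroup Vh] [Module K Vh] (ρh : G →* Module.End K Vh)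
    (ι : Type) (x : ι → F → G), q₀ ≤ q → SpD m q F B ρ b → ModF (m := m) B ρ → EndSt F B ρ ρh →
    FiniteDimensional K Vh → Module.finrank K Vh = 2 * m + 1 → OneP F x → PolyDeg ρ F x 2 → PolyDeg ρh F x 2 →
    (∀ k, 0 < k → k + 1 < q → ∃ g : G, g ^ k ≠ 1) →
    ∃ (W : Type) (_ : AddCommGroup W) (_ : Module K W) (σ : G →* Module.End K W) (π : Lam0 B →ₗ[K] W),
      WD B ρ σ π ∧
    FiniteDimensional K (Module.End K (Module.End K V) × Module.End K Vh) ∧ FiniteDimensional K V ∧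
    FiniteDimensional K W ∧
    Module.finrank K (Module.End K (Module.End K V) × Module.End K Vh) ≤ C ∧ Module.finrank K V ≤ C ∧
    Module.finrank K W ≤ C ∧
    PolyDeg (prodR (ad (ad ρ)) (ad ρh)) F x C ∧ PolyDeg ρ F x C ∧ PolyDeg σ F x C ∧
    (∃ g h : G, (LinearMap.trace K V (ρ g)) ^ Module.finrank K V ≠ (LinearMap.trace K V (ρ h)) ^ Module.finrank K V) ∧
    (∃ g h : G, (LinearMap.trace K W (σ g)) ^ Module.finrank K W ≠
      (LinearMap.trace K W (σ h)) ^ Module.finrank K W) ∧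
    (∀ k, 0 < k → k ≤ C → ∃ g : G, prodR (ad (ad ρ)) (ad ρh) (g ^ k) ≠ 1) ∧
    ∀ H : Subgroup G, Dns (prodR (ad (ad ρ)) (ad ρh)) H → ∀ y ∈ H,
      (∀ k, 0 < k → k ≤ C → prodR (ad (ad ρ)) (ad ρh) (y ^ k) ≠ 1) → TrGen F ρ y → TrGen F σ y →
      H = ⊤ ∨ (m = 2 ∧ ∃ j : ℕ, LinearMap.trace K W (σ y) = (LinearMap.trace K V (ρ y)) ^ 2 ^ j) := by
  obtain ⟨C₀, hC₀⟩ := top_or m hstr hcrg twiSt twiDim twiTr hext
  refine ⟨max (max C₀ 8) ((2 * m) ^ 4 + (2 * m + 1) ^ 2), max (max C₀ 8) ((2 * m) ^ 4 + (2 * m + 1) ^ 2) +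
    4 * (2 * m) ^ 2 + 2, ?_⟩
  intro q K _ F V _ _ B G _ ρ b Vh _ _ ρh ι x hq D hmod hEnd hfh hdh hx hρ hρh hpw
  have := D.closed
  have := D.finF
  have := D.char
  have hm := D.two_le
  have hfV : FiniteDimensional K V := Cfsg.Agent.H601.BR.V_fd b
  have hdV : Module.finrank K V = 2 * m := Cfsg.Agent.H601.BR.V_dim b
  set C := max (max C₀ 8) ((2 * m) ^ 4 + (2 * m + 1) ^ 2) with hCdef
  have hC1 : C₀ ≤ C := (le_max_left _ _).trans (le_max_left _ _)
  have hC2 : 8 ≤ C := (le_max_right _ _).trans (le_max_left _ _)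
  have hC3 : (2 * m) ^ 4 + (2 * m + 1) ^ 2 ≤ C := le_max_right _ _
  have hC4 : (2 * m) ^ 2 ≤ (2 * m) ^ 4 := Nat.pow_le_pow_right (by omega) (by norm_num)
  have hC5 : 2 * m ≤ (2 * m) ^ 2 := by
    rw [pow_two]; exact Nat.le_mul_of_pos_left _ (by omega)
  obtain ⟨W, _, _, σ, π, hW⟩ := Cfsg.Agent.H601.BR.exists_W D
  have hfW : FiniteDimensional K W := Cfsg.Agent.H601.BR.W_fd D hW
  have hWle := Cfsg.Agent.H601.BR.W_le D hW
  have hWi : Irr σ ⊤ := Cfsg.Agent.H601.BR.W_irr D hW hmod.dim hmod.lam dns_top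
  have hσ : PolyDeg σ F x 4 := Cfsg.Agent.H601.BR.W_deg D hW hx hρ
  have hcF : Nat.card F = q := D.cardF
  refine ⟨W, inferInstance, inferInstance, σ, π, hW, inferInstance, hfV, hfW, ?_, ?_, ?_, ?_, ?_, ?_, ?_, ?_, ?_, ?_⟩
  · rw [Module.finrank_prod, Module.finrank_linearMap, Module.finrank_linearMap, Module.finrank_linearMap, hdV, hdh]
    refine le_trans (le_of_eq ?_) hC3
    ring
  · rw [hdV]; omega
  · omega
  · refine polyDeg_prod (polyDeg_mono (Cfsg.Agent.H886.BR.polyDeg_ad hx (Cfsg.Agent.H886.BR.polyDeg_ad hx hρ)) ?_)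
      (polyDeg_mono (Cfsg.Agent.H886.BR.polyDeg_ad hx hρh) ?_) <;> omega
  · exact polyDeg_mono hρ (by omega)
  · exact polyDeg_mono hσ (by omega)
  · refine Cfsg.Agent.H583.BR.Trn.trn_of_irr hmod.irr hx hρ ?_ ?_
    · rw [hdV, hcF]; omega
    · by_contra hcon
      push Not at hcon
      have hnt := D.qs.nt
      obtain ⟨g, hg⟩ := exists_ne (1 : G)
      exact hg (D.inj (by rw [hcon g, map_one]))
  · refine Cfsg.Agent.H583.BR.Trn.trn_of_irr hWi hx hσ ?_ (W_ne_one D hW hmod.dim hWi)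
    rw [hcF]; omega
  · intro k hk hkC
    obtain ⟨g, hg⟩ := hpw k hk (by omega)
    refine ⟨g, fun h => hg ?_⟩
    refine eq_one_of_adad D hmod.irr ?_
    refine LinearMap.ext fun X => ?_
    have h1 := congrArg (fun T : Module.End K (Module.End K (Module.End K V) × Module.End K Vh) => (T (X, 0)).1) h
    exact h1
  · intro H hH y hy hk ht ht'
    exact hC₀ q K F V B G ρ b W σ π Vh ρh D hW hmod hEnd H (dns_left hH)
      (dns_right hH) y hy (fun k hk0 hkC h1 => hk k hk0 (by omega) (by rw [h1, map_one])) ht ht'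

end Cfsg.Agent.H94.BR
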