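import Cfsg.Agent.H94.BR.SpRowA
import Cfsg.Agent.H815.BR.Row2
import Cfsg.Agent.H124.BR.Cnt4

/-!
# HUB BR, `Sp_{2m}(2^f)`: `Row` (`m ≥ 3`) and `Row2` (`m = 2`) for the abstract data
-/

set_option autoImplicit false

namespace Cfsg.Agent.H94.BR

open Cfsg.Agent.H883.BR

theorem row_abs (m : ℕ) (hm : 3 ≤ m) (hstr : StrSt (2 * m)) (hcrg : CrgSt) (hext : ExtV) :
    ∃ C q₀ : ℕ, ∀ (q : ℕ) (K : Type) [Field K] (F : Subfield K) (V : Type) [AddCommGroup V] [Module K V]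
    (B : LinearMap.BilinForm K V) (G : Type) [Group G] (ρ : G →* Module.End K V)
    (b : Module.Basis (Fin m ⊕ Fin m) K V) (Vh : Type) [AddCommGroup Vh] [Module K Vh] (ρh : G →* Module.End K Vh)
    (ι : Type) (x : ι → F → G), q₀ ≤ q → SpD m q F B ρ b → ModF (m := m) B ρ → EndSt F B ρ ρh →
    FiniteDimensional K Vh → Module.finrank K Vh = 2 * m + 1 → OneP F x → PolyDeg ρ F x 2 → PolyDeg ρh F x 2 →
    (∀ k, 0 < k → k + 1 < q → ∃ g : G, g ^ k ≠ 1) → Row.{0, 0} C q G := by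
  obtain ⟨C, q₀, h⟩ := row_pack m hstr hcrg hext
  refine ⟨C, q₀, ?_⟩
  intro q K _ F V _ _ B G _ ρ b Vh _ _ ρh ι x hq D hmod hEnd hfh hdh hx hρ hρh hpw
  obtain ⟨W, iW1, iW2, σ, π, hW, f1, f2, f3, d1, d2, d3, p1, p2, p3, t1, t2, hk, hend⟩ :=
    h q K F V B G ρ b Vh ρh ι x hq D hmod hEnd hfh hdh hx hρ hρh hpw
  refine ⟨K, inferInstance, F, ι, x, Module.End K (Module.End K V) × Module.End K Vh, V, W, inferInstance,
    inferInstance, inferInstance, inferInstance, iW1, iW2, prodR (ad (ad ρ)) (ad ρh), ρ, σ, D.finF, D.cardF, hx, f1, f2,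
    f3, d1, d2, d3, p1, p2, p3, t1, t2, hk, ?_⟩
  intro H hH y hy hky ht ht'
  rcases hend H hH y hy hky ht ht' with h1 | ⟨h1, -⟩
  · exact h1
  · omega

theorem row2_abs (hstr : StrSt (2 * 2)) (hcrg : CrgSt) (hext : ExtV) :
    ∃ C q₀ : ℕ, ∀ (q : ℕ) (K : Type) [Field K] (F : Subfield K) (V : Type) [AddCommGroup V] [Module K V]
    (B : LinearMap.BilinForm K V) (G : Type) [Group G] (ρ : G →* Module.End K V)
    (b : Module.Basis (Fin 2 ⊕ Fin 2) K V) (Vh : Type) [AddCommGroup Vh] [Module K Vh] (ρh : G →* Module.End K Vh)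
    (ι : Type) (x : ι → F → G), q₀ ≤ q → SpD 2 q F B ρ b → ModF (m := 2) B ρ → EndSt F B ρ ρh →
    FiniteDimensional K Vh → Module.finrank K Vh = 2 * 2 + 1 → OneP F x → PolyDeg ρ F x 2 → PolyDeg ρh F x 2 →
    (∀ k, 0 < k → k + 1 < q → ∃ g : G, g ^ k ≠ 1) → Cfsg.Agent.H815.BR.Row2.{0, 0} C q G := by
  obtain ⟨C, q₀, h⟩ := row_pack 2 hstr hcrg hext
  obtain ⟨C₄, hC₄⟩ := Cfsg.Agent.H124.BR.cnt4
  refine ⟨max C C₄, max q₀ (C₄ + 2), ?_⟩
  intro q K _ F V _ _ B G _ ρ b Vh _ _ ρh ι x hq D hmod hEnd hfh hdh hx hρ hρh hpw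
  have := D.closed
  have := D.finF
  have := D.char
  have hq1 : q₀ ≤ q := (le_max_left _ _).trans hq
  have hq2 : C₄ + 2 ≤ q := (le_max_right _ _).trans hq
  obtain ⟨W, iW1, iW2, σ, π, hW, f1, f2, f3, d1, d2, d3, p1, p2, p3, t1, t2, hk, hend⟩ :=
    h q K F V B G ρ b Vh ρh ι x hq1 D hmod hEnd hfh hdh hx hρ hρh hpw
  have hC : C ≤ max C C₄ := le_max_left _ _
  have hC' : C₄ ≤ max C C₄ := le_max_right _ _
  refine ⟨K, inferInstance, F, ι, x, Module.End K (Module.End K V) × Module.End K Vh, V, W, inferInstance,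
    inferInstance, inferInstance, inferInstance, iW1, iW2, prodR (ad (ad ρ)) (ad ρh), ρ, σ,
    {y : G | ∃ j : ℕ, LinearMap.trace K W (σ y) = (LinearMap.trace K V (ρ y)) ^ 2 ^ j}, D.finF, D.cardF, hx, f1, f2,
    f3, d1.trans hC, d2.trans hC, d3.trans hC, polyDeg_mono p1 hC, polyDeg_mono p2 hC, polyDeg_mono p3 hC, t1, t2, ?_,
    ?_, ?_⟩
  · intro k hk0 hkC
    rcases le_or_gt k C with h1 | h1
    · exact hk k hk0 h1
    · have h2 : k ≤ C₄ := by
        rcases le_max_iff.1 hkC with h3 | h3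
        · omega
        · exact h3
      obtain ⟨g, hg⟩ := hpw k hk0 (by omega)
      refine ⟨g, fun h => hg ?_⟩
      refine eq_one_of_adad D hmod.irr ?_
      refine LinearMap.ext fun X => ?_
      have h1 := congrArg (fun T : Module.End K (Module.End K (Module.End K V) × Module.End K Vh) => (T (X, 0)).1) h
      exact h1
  · exact (hC₄ q K F V B G ρ b W σ π D hW).trans (Nat.mul_le_mul_right _ hC')
  · intro H hH y hy hyE hky ht ht'
    rcases hend H hH y hy (fun k hk0 hkC => hky k hk0 (hkC.trans hC)) ht ht' with h1 | ⟨-, h1⟩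
    · exact h1
    · exact absurd h1 hyE

end Cfsg.Agent.H94.BR
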